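import Mathlib

/-!
A quadratic form of even rank with invertible polar determinant is split etale locally.
The form is `x ↦ x ⬝ᵥ C *ᵥ x`.
-/

set_option autoImplicit false
set_option linter.style.haveILetI false

universe u v

open Matrix Polynomial

namespace GrothLib.QSplit21

variable {ι : Type v} [Fintype ι] {B : Type u} [CommRing B]

/-- the quadratic form -/
def qf (C : Matrix ι ι B) (x : ι → B) : B := x ⬝ᵥ (C *ᵥ x)

/-- the polar form -/
def bf (C : Matrix ι ι B) : (ι → B) →ₗ[B] (ι → B) →ₗ[B] B :=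
  LinearMap.mk₂ B (fun x y => x ⬝ᵥ (C *ᵥ y) + y ⬝ᵥ (C *ᵥ x))
    (fun x x' y => by simp [mulVec_add, dotProduct_add, add_dotProduct]; ring)
    (fun c x y => by simp [mulVec_smul, dotProduct_smul, smul_dotProduct]; ring)
    (fun x y y' => by simp [mulVec_add, dotProduct_add, add_dotProduct]; ring)
    (fun c x y => by simp [mulVec_smul, dotProduct_smul, smul_dotProduct]; ring)

theorem bf_apply (C : Matrix ι ι B) (x y : ι → B) :
    bf C x y = x ⬝ᵥ (C *ᵥ y) + y ⬝ᵥ (C *ᵥ x) := rfl

theorem bf_comm (C : Matrix ι ι B) (x y : ι → B) : bf C x y = bf C y x := by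
  simp only [bf_apply]; ring

theorem bf_self (C : Matrix ι ι B) (x : ι → B) : bf C x x = 2 * qf C x := by
  simp only [bf_apply, qf]; ring

theorem qf_add (C : Matrix ι ι B) (x y : ι → B) :
    qf C (x + y) = qf C x + qf C y + bf C x y := by
  simp only [bf_apply, qf, mulVec_add, dotProduct_add, add_dotProduct]; ring

theorem qf_smul (C : Matrix ι ι B) (c : B) (x : ι → B) : qf C (c • x) = c ^ 2 * qf C x := by
  simp only [qf, mulVec_smul, dotProduct_smul, smul_dotProduct, smul_eq_mul]; ring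

theorem bf_eq_mulVec (C : Matrix ι ι B) (x y : ι → B) : bf C x y = x ⬝ᵥ ((C + Cᵀ) *ᵥ y) := by
  rw [bf_apply, add_mulVec, dotProduct_add]
  congr 1
  rw [dotProduct_mulVec y C x, mulVec_transpose, dotProduct_comm]

theorem qf_map {B' : Type u} [CommRing B'] (φ : B →+* B') (C : Matrix ι ι B) (x : ι → B) :
    φ (qf C x) = qf (C.map φ) (φ ∘ x) := by
  rw [qf, qf, RingHom.map_dotProduct]
  congr 1
  funext i
  exact RingHom.map_mulVec φ C x i

theorem bf_map {B' : Type u} [CommRing B'] (φ : B →+* B') (C : Matrix ι ι B) (x y : ι → B) :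
    φ (bf C x y) = bf (C.map φ) (φ ∘ x) (φ ∘ y) := by
  rw [bf_apply, bf_apply, map_add, RingHom.map_dotProduct, RingHom.map_dotProduct]
  congr 2 <;> funext i <;> exact RingHom.map_mulVec φ C _ i

/-- the discriminant of a pair -/
def disc (C : Matrix ι ι B) (v w : ι → B) : B := bf C v w ^ 2 - 4 * qf C v * qf C w

/-- `k` orthogonal hyperbolic pairs -/
structure Hyp (C : Matrix ι ι B) {k : ℕ} (e f : Fin k → ι → B) : Prop where
  qe : ∀ i, qf C (e i) = 0
  qf' : ∀ i, qf C (f i) = 0
  ee : ∀ i j, bf C (e i) (e j) = 0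
  ff : ∀ i j, bf C (f i) (f j) = 0
  efd : ∀ i, bf C (e i) (f i) = 1
  efo : ∀ i j, i ≠ j → bf C (e i) (f j) = 0

/-- orthogonality to a family -/
def Orth (C : Matrix ι ι B) {k : ℕ} (e f : Fin k → ι → B) (x : ι → B) : Prop :=
  (∀ j, bf C x (e j) = 0) ∧ ∀ j, bf C x (f j) = 0

/-- projection to the orthogonal complement -/
def proj (C : Matrix ι ι B) {k : ℕ} (e f : Fin k → ι → B) (x : ι → B) : ι → B :=
  x - ∑ i, bf C x (f i) • e i - ∑ i, bf C x (e i) • f i

theorem orth_proj {C : Matrix ι ι B} {k : ℕ} {e f : Fin k → ι → B} (h : Hyp C e f) (x : ι → B) :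
    Orth C e f (proj C e f x) := by
  constructor <;> intro j
  · simp only [proj, map_sub, map_sum, map_smul, LinearMap.sub_apply, LinearMap.sum_apply,
      LinearMap.smul_apply, h.ee, smul_zero, Finset.sum_const_zero, sub_zero]
    rw [Finset.sum_eq_single j (fun i _ hi => by rw [bf_comm C (f i) (e j), h.efo j i (Ne.symm hi), smul_zero])
      (by simp)]
    rw [bf_comm C (f j) (e j), h.efd, smul_eq_mul, mul_one, sub_self]
  · simp only [proj, map_sub, map_sum, map_smul, LinearMap.sub_apply, LinearMap.sum_apply,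
      LinearMap.smul_apply, h.ff, smul_zero, Finset.sum_const_zero, sub_zero]
    rw [Finset.sum_eq_single j (fun i _ hi => by rw [h.efo i j hi, smul_zero]) (by simp)]
    rw [h.efd, smul_eq_mul, mul_one, sub_self]

theorem Hyp.map {B' : Type u} [CommRing B'] (φ : B →+* B') {C : Matrix ι ι B} {k : ℕ}
    {e f : Fin k → ι → B} (h : Hyp C e f) :
    Hyp (C.map φ) (fun i => φ ∘ e i) (fun i => φ ∘ f i) where
  qe i := by rw [← qf_map, h.qe, map_zero]
  qf' i := by rw [← qf_map, h.qf', map_zero]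
  ee i j := by rw [← bf_map, h.ee, map_zero]
  ff i j := by rw [← bf_map, h.ff, map_zero]
  efd i := by rw [← bf_map, h.efd, map_one]
  efo i j hij := by rw [← bf_map, h.efo i j hij, map_zero]

theorem Orth.map {B' : Type u} [CommRing B'] (φ : B →+* B') {C : Matrix ι ι B} {k : ℕ}
    {e f : Fin k → ι → B} {x : ι → B} (h : Orth C e f x) :
    Orth (C.map φ) (fun i => φ ∘ e i) (fun i => φ ∘ f i) (φ ∘ x) :=
  ⟨fun j => by rw [← bf_map, h.1, map_zero], fun j => by rw [← bf_map, h.2, map_zero]⟩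

theorem Hyp.snoc {C : Matrix ι ι B} {k : ℕ} {e f : Fin k → ι → B} (h : Hyp C e f)
    {a b : ι → B} (ha : qf C a = 0) (hb : qf C b = 0) (hab : bf C a b = 1)
    (oa : Orth C e f a) (ob : Orth C e f b) :
    Hyp C (Fin.snoc e a) (Fin.snoc f b) where
  qe i := by induction i using Fin.lastCases <;> simp [ha, h.qe]
  qf' i := by induction i using Fin.lastCases <;> simp [hb, h.qf']
  ee i j := by
    induction i using Fin.lastCases <;> induction j using Fin.lastCases <;>
      simp [h.ee, oa.1, bf_self, ha, bf_comm C (e _) a]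
  ff i j := by
    induction i using Fin.lastCases <;> induction j using Fin.lastCases <;>
      simp [h.ff, ob.2, bf_self, hb, bf_comm C (f _) b]
  efd i := by induction i using Fin.lastCases <;> simp [hab, h.efd]
  efo i j hij := by
    induction i using Fin.lastCases with
    | last =>
      induction j using Fin.lastCases with
      | last => exact absurd rfl hij
      | cast j => simp [oa.2]
    | cast i =>
      induction j using Fin.lastCases with
      | last => simp [bf_comm C (e i) b, ob.1]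
      | cast j =>
        simp only [Fin.snoc_castSucc]
        exact h.efo i j fun e => hij (congrArg _ e)

/-- Over a field: a pair with nonzero discriminant orthogonal to the given family. -/
theorem exists_disc_ne_zero {K : Type u} [Field K] [DecidableEq ι] (C : Matrix ι ι K)
    (hC : (C + Cᵀ).det ≠ 0) {k : ℕ} {e f : Fin k → ι → K} (h : Hyp C e f)
    (hk : 2 * k + 2 ≤ Fintype.card ι) :
    ∃ v w, Orth C e f v ∧ Orth C e f w ∧ disc C v w ≠ 0 := by
  have hM : ∀ x, (∀ y, bf C x y = 0) → x = 0 := by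
    intro x hx
    refine Matrix.eq_zero_of_mulVec_eq_zero hC (dotProduct_eq_zero _ fun y => ?_)
    rw [dotProduct_comm, ← bf_eq_mulVec, bf_comm]
    exact hx y
  have hW : ∀ x, Orth C e f x → (∀ y, Orth C e f y → bf C x y = 0) → x = 0 := by
    intro x hx hy
    refine hM x fun z => ?_
    have h2 := hy _ (orth_proj h z)
    simpa [proj, map_sub, map_sum, hx.1, hx.2] using h2
  let L : (ι → K) →ₗ[K] (Fin k → K) × (Fin k → K) :=
    (LinearMap.pi fun j => (bf C).flip (e j)).prod (LinearMap.pi fun j => (bf C).flip (f j))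
  have hL : ∀ x, L x = 0 → Orth C e f x := fun x hx =>
    ⟨fun j => congrFun (congrArg Prod.fst hx) j, fun j => congrFun (congrArg Prod.snd hx) j⟩
  have hdimL : Module.finrank K ((Fin k → K) × (Fin k → K)) = k + k := by simp
  have hdim : Module.finrank K (ι → K) = Fintype.card ι := by simp
  obtain ⟨x, hxL, hx0⟩ := Submodule.exists_mem_ne_zero_of_ne_bot
    (LinearMap.ker_ne_bot_of_finrank_lt (f := L) (by omega))
  have hxo := hL x hxL
  by_cases h2 : (2 : K) = 0
  · have : ∃ y, Orth C e f y ∧ bf C x y ≠ 0 := by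
      by_contra hc
      push Not at hc
      exact hx0 (hW x hxo hc)
    obtain ⟨y, hy, hxy⟩ := this
    refine ⟨x, y, hxo, hy, ?_⟩
    have h4 : (4 : K) = 0 := by linear_combination (2 : K) * h2
    simp [disc, h4, hxy]
  · have hex : ∀ (P : (ι → K) → Prop) (x₀ : ι → K), (∀ a b, P a → P b → P (a + b)) → P x₀ →
        (∃ y, P y ∧ bf C x₀ y ≠ 0) → ∃ z, P z ∧ qf C z ≠ 0 := by
      intro P x₀ hadd hP0 ⟨y, hy, hne⟩
      by_contra hc
      push Not at hc
      apply hne
      have h3 := qf_add C x₀ y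
      rw [hc _ (hadd _ _ hP0 hy), hc _ hP0, hc _ hy] at h3
      simpa using h3.symm
    have oadd : ∀ a b, Orth C e f a → Orth C e f b → Orth C e f (a + b) := fun a b ha hb =>
      ⟨fun j => by simp [ha.1, hb.1], fun j => by simp [ha.2, hb.2]⟩
    have osmul : ∀ (c : K) a, Orth C e f a → Orth C e f (c • a) := fun c a ha =>
      ⟨fun j => by simp [ha.1], fun j => by simp [ha.2]⟩
    obtain ⟨v, hvo, hv⟩ := hex (Orth C e f) x oadd hxo (by
      by_contra hc
      push Not at hc
      exact hx0 (hW x hxo hc))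
    have hvv : bf C v v ≠ 0 := by rw [bf_self]; exact mul_ne_zero h2 hv
    let L' : (ι → K) →ₗ[K] ((Fin k → K) × (Fin k → K)) × K := L.prod (bf C v)
    have hdimL' : Module.finrank K (((Fin k → K) × (Fin k → K)) × K) = k + k + 1 := by simp
    obtain ⟨z, hzL, hz0⟩ := Submodule.exists_mem_ne_zero_of_ne_bot
      (LinearMap.ker_ne_bot_of_finrank_lt (f := L') (by omega))
    have hzo := hL z (congrArg Prod.fst hzL)
    have hvz : bf C v z = 0 := congrArg Prod.snd hzL
    obtain ⟨w, ⟨hwo, hvw⟩, hw⟩ := hex (fun y => Orth C e f y ∧ bf C v y = 0) z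
      (fun a b ha hb => ⟨oadd a b ha.1 hb.1, by simp [ha.2, hb.2]⟩) ⟨hzo, hvz⟩ (by
        by_contra hc
        push Not at hc
        refine hz0 (hW z hzo fun y hy => ?_)
        have hy' := hc (y + (-(bf C v y / bf C v v)) • v)
          ⟨oadd _ _ hy (osmul _ v hvo), by simp [div_mul_cancel₀ _ hvv]⟩
        simpa [bf_comm C z v, hvz] using hy')
    refine ⟨v, w, hvo, hwo, ?_⟩
    have h4 : (4 : K) ≠ 0 := by
      rw [show (4 : K) = 2 * 2 by norm_num]; exact mul_ne_zero h2 h2
    simp [disc, hvw, h4, hv, hw]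

section Step

variable {A : Type u} [CommRing A]

/-- One more hyperbolic pair, after an etale extension keeping the prime in the image. -/
theorem step [DecidableEq ι] (C : Matrix ι ι A) (hC : IsUnit (C + Cᵀ).det) {k : ℕ}
    (hk : 2 * k + 2 ≤ Fintype.card ι) (p : Ideal A) [p.IsPrime]
    (e f : Fin k → ι → A) (h : Hyp C e f) :
    ∃ (A' : Type u) (_ : CommRing A') (_ : Algebra A A') (_ : Algebra.Etale A A') (q : Ideal A')
      (_ : q.IsPrime) (e' f' : Fin (k + 1) → ι → A'),
      q.comap (algebraMap A A') = p ∧ Hyp (C.map (algebraMap A A')) e' f' := by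
  classical
  let K := p.ResidueField
  let φ : A →+* K := algebraMap A K
  have hCK : ((C.map φ) + (C.map φ)ᵀ).det ≠ 0 := by
    have h2 := hC.map φ
    rw [RingHom.map_det] at h2
    refine IsUnit.ne_zero ?_
    rwa [RingHom.mapMatrix_apply, Matrix.map_add _ (map_add φ), Matrix.transpose_map] at h2
  obtain ⟨v, w, hv, hw, hd⟩ := exists_disc_ne_zero (C.map φ) hCK (h.map φ) hk
  have lift : ∀ x : ι → K, Orth (C.map φ) (fun i => φ ∘ e i) (fun i => φ ∘ f i) x →
      ∃ (y : ι → A) (c : K), c ≠ 0 ∧ Orth C e f y ∧ φ ∘ y = c • x := by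
    intro x hx
    obtain ⟨⟨s, hs⟩, hsx⟩ :=
      IsLocalization.exist_integer_multiples_of_finite (nonZeroDivisors (A ⧸ p)) x
    choose y hy using hsx
    choose y' hy' using fun i => Ideal.Quotient.mk_surjective (y i)
    have e1 : φ ∘ y' = algebraMap (A ⧸ p) K s • x := by
      funext i
      rw [Function.comp_apply, Pi.smul_apply, smul_eq_mul]
      show algebraMap A K (y' i) = _
      rw [IsScalarTower.algebraMap_apply A (A ⧸ p) K, Ideal.Quotient.algebraMap_eq, hy', hy i,
        Algebra.smul_def]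
    refine ⟨proj C e f y', algebraMap (A ⧸ p) K s, ?_, orth_proj h y', ?_⟩
    · exact IsLocalization.to_map_ne_zero_of_mem_nonZeroDivisors _ le_rfl hs
    · funext i
      have h1 : ∀ j, φ (bf C y' (e j)) = 0 := fun j => by
        rw [bf_map, e1]; simp [hx.1 j]
      have h2 : ∀ j, φ (bf C y' (f j)) = 0 := fun j => by
        rw [bf_map, e1]; simp [hx.2 j]
      rw [← e1]
      simp [proj, map_sum, h1, h2]
  obtain ⟨v₁, a, ha, hov, hev⟩ := lift v hv
  obtain ⟨w₁, b, hb, how, hew⟩ := lift w hw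
  have hd1 : disc C v₁ w₁ ∉ p := by
    rw [← Ideal.algebraMap_residueField_eq_zero]
    show φ (disc C v₁ w₁) ≠ 0
    have : φ (disc C v₁ w₁) = (a * b) ^ 2 * disc (C.map φ) v w := by
      simp only [disc, map_sub, map_pow, map_mul, qf_map, bf_map, hev, hew, qf_smul, map_smul,
        LinearMap.smul_apply, smul_eq_mul, map_ofNat]
      ring
    rw [this]
    exact mul_ne_zero (pow_ne_zero 2 (mul_ne_zero ha hb)) hd
  -- arrange that `q w ∉ p`
  obtain ⟨v₂, w₂, hov, how, hd2, hg⟩ : ∃ v₂ w₂, Orth C e f v₂ ∧ Orth C e f w₂ ∧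
      disc C v₂ w₂ ∉ p ∧ qf C w₂ ∉ p := by
    by_cases hw' : qf C w₁ ∈ p
    · by_cases hv' : qf C v₁ ∈ p
      · refine ⟨v₁, v₁ + w₁, hov, ⟨fun j => ?_, fun j => ?_⟩, ?_, fun hc => ?_⟩
        · simp [hov.1, how.1]
        · simp [hov.2, how.2]
        · have : disc C v₁ (v₁ + w₁) = disc C v₁ w₁ := by
            simp only [disc, qf_add, map_add, bf_self]; ring
          rwa [this]
        · apply hd1
          rw [qf_add] at hc
          have hb' : bf C v₁ w₁ ∈ p := (Ideal.add_mem_iff_right p (p.add_mem hv' hw')).mp hc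
          exact p.sub_mem (Ideal.pow_mem_of_mem p hb' 2 (by norm_num)) (p.mul_mem_left _ hw')
      · refine ⟨w₁, v₁, how, hov, ?_, hv'⟩
        have : disc C w₁ v₁ = disc C v₁ w₁ := by
          simp only [disc, bf_comm C w₁ v₁]; ring
        rwa [this]
    · exact ⟨v₁, w₁, hov, how, hd1, hw'⟩
  let d : A := qf C w₂ * disc C v₂ w₂
  have hdp : d ∉ p := fun hc => (‹p.IsPrime›.mem_or_mem hc).elim hg hd2
  let R := Localization.Away d
  let ψ : A →+* R := algebraMap A R
  have hud : IsUnit (ψ (qf C w₂) * ψ (disc C v₂ w₂)) := by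
    rw [← map_mul]; exact IsLocalization.Away.algebraMap_isUnit d
  obtain ⟨hug, hud⟩ := IsUnit.mul_iff.mp hud
  obtain ⟨γ, hγ⟩ := hug
  let c1 : R := ↑γ⁻¹ * ψ (bf C v₂ w₂)
  let c0 : R := ↑γ⁻¹ * ψ (qf C v₂)
  have hdisc : IsUnit (c1 ^ 2 - 4 * c0) := by
    have e2 : c1 ^ 2 - 4 * c0 = (↑γ⁻¹ : R) ^ 2 * ψ (disc C v₂ w₂) := by
      simp only [c1, c0, disc, map_sub, map_mul, map_pow, map_ofNat, ← hγ]
      linear_combination 4 * ↑γ⁻¹ * ψ (qf C v₂) * Units.inv_mul γ
    rw [e2]
    exact ((Units.isUnit _).pow 2).mul hud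
  obtain ⟨dd, hdd⟩ := hdisc.exists_right_inv
  let F : R[X] := Polynomial.X ^ 2 + (Polynomial.C c1 * Polynomial.X + Polynomial.C c0)
  have hF' : derivative F = 2 * Polynomial.X + Polynomial.C c1 := by
    simp [F]; try ring
  let P : StandardEtalePair R :=
    { f := F
      monic_f := by
        refine monic_X_pow_add (lt_of_le_of_lt (degree_linear_le) ?_)
        exact WithBot.coe_lt_coe.mpr one_lt_two
      g := 1
      cond := ⟨Polynomial.C dd * (2 * Polynomial.X + Polynomial.C c1), Polynomial.C (-4 * dd), 0, by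
        have h0 : (Polynomial.C c1 ^ 2 - 4 * Polynomial.C c0) * Polynomial.C dd = 1 := by
          rw [← map_ofNat Polynomial.C 4, ← map_pow, ← map_mul, ← map_sub, ← map_mul, hdd, map_one]
        rw [hF', pow_zero, show Polynomial.C (-4 * dd) = -4 * Polynomial.C dd by
          rw [map_mul, map_neg, map_ofNat]]
        simp only [F]
        linear_combination h0⟩ }
  let pR : Ideal R := Ideal.map ψ p
  have hdisj : Disjoint (Submonoid.powers d : Set A) (p : Set A) :=
    Set.disjoint_left.mpr fun x ⟨n, hn⟩ hx => hdp (‹p.IsPrime›.mem_of_pow_mem n (by subst hn; exact hx))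
  haveI : pR.IsPrime := IsLocalization.isPrime_of_isPrime_disjoint (Submonoid.powers d) R p ‹_› hdisj
  have hpR : pR.comap ψ = p :=
    IsLocalization.comap_map_of_isPrime_disjoint (Submonoid.powers d) R ‹_› hdisj
  let Ω := AlgebraicClosure pR.ResidueField
  obtain ⟨r, hr⟩ := IsAlgClosed.exists_root (k := Ω) (F.map (algebraMap R Ω)) (by
    rw [P.monic_f.degree_map]
    have : F.degree = 2 := by
      show (Polynomial.X ^ 2 + (Polynomial.C c1 * Polynomial.X + Polynomial.C c0) : R[X]).degree = 2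
      haveI : Nontrivial R := (algebraMap R Ω).domain_nontrivial
      rw [degree_add_eq_left_of_degree_lt]
      · simp
      · rw [degree_X_pow]
        exact lt_of_le_of_lt degree_linear_le (WithBot.coe_lt_coe.mpr one_lt_two)
    rw [this]; decide)
  have hmap : P.HasMap r := ⟨by rw [← eval_map_algebraMap]; exact hr, by simp [P]⟩
  let χ : P.Ring →ₐ[R] Ω := P.lift r hmap
  letI : Algebra A P.Ring := ((algebraMap R P.Ring).comp ψ).toAlgebra
  haveI : IsScalarTower A R P.Ring := IsScalarTower.of_algebraMap_eq fun _ => rfl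
  haveI : Algebra.Etale A R := Algebra.Etale.of_isLocalizationAway d
  haveI : Algebra.Etale A P.Ring := Algebra.Etale.comp A R P.Ring
  let θ : A →+* P.Ring := algebraMap A P.Ring
  refine ⟨P.Ring, inferInstance, inferInstance, inferInstance, RingHom.ker χ.toRingHom,
    RingHom.ker_isPrime _, ?_⟩
  have hθ : ∀ x, θ x = algebraMap R P.Ring (ψ x) := fun x => rfl
  have ht : P.X ^ 2 + (algebraMap R P.Ring c1 * P.X + algebraMap R P.Ring c0) = 0 := by
    have := P.hasMap_X.1
    simpa [P, F] using this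
  let γ' : P.Ring := algebraMap R P.Ring (γ : R)
  have hγ' : θ (qf C w₂) = γ' := by rw [hθ, ← hγ]
  have hb1 : θ (bf C v₂ w₂) = γ' * algebraMap R P.Ring c1 := by
    rw [hθ, ← map_mul, Units.mul_inv_cancel_left]
  have hb0 : θ (qf C v₂) = γ' * algebraMap R P.Ring c0 := by
    rw [hθ, ← map_mul, Units.mul_inv_cancel_left]
  let C' := C.map θ
  let v' : ι → P.Ring := θ ∘ v₂
  let w' : ι → P.Ring := θ ∘ w₂
  let en : ι → P.Ring := v' + P.X • w'
  have hen : qf C' en = 0 := by
    simp only [en, v', w', C', qf_add, qf_smul, map_smul, smul_eq_mul, ← qf_map, ← bf_map, hγ',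
      hb1, hb0]
    linear_combination γ' * ht
  have hbu : IsUnit (bf C' en w') := by
    have e3 : bf C' en w' = θ (bf C v₂ w₂) + 2 * P.X * θ (qf C w₂) := by
      simp only [en, v', w', C', map_add, map_smul, LinearMap.add_apply, LinearMap.smul_apply,
        smul_eq_mul, bf_self, ← qf_map, ← bf_map]
      ring
    have e4 : bf C' en w' ^ 2 = θ (disc C v₂ w₂) := by
      rw [e3]
      simp only [disc, map_sub, map_mul, map_pow, map_ofNat, hγ', hb1, hb0]
      linear_combination 4 * γ' ^ 2 * ht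
    refine (isUnit_pow_iff two_ne_zero).mp ?_
    rw [e4, hθ]
    exact hud.map _
  obtain ⟨u, hu⟩ := hbu.exists_right_inv
  let f0 : ι → P.Ring := u • w'
  let fn : ι → P.Ring := f0 + (-qf C' f0) • en
  have hef0 : bf C' en f0 = 1 := by
    simp only [f0, map_smul, smul_eq_mul]; rw [mul_comm]; exact hu
  have hfn : qf C' fn = 0 := by
    simp only [fn, qf_add, qf_smul, hen, map_smul, smul_eq_mul, bf_comm C' f0 en, hef0]
    ring
  have hefn : bf C' en fn = 1 := by
    simp only [fn, map_add, map_smul, smul_eq_mul, hef0, bf_self, hen]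
    ring
  have ov : Orth (C.map θ) (fun i => θ ∘ e i) (fun i => θ ∘ f i) v' := hov.map θ
  have ow : Orth (C.map θ) (fun i => θ ∘ e i) (fun i => θ ∘ f i) w' := how.map θ
  refine ⟨Fin.snoc (fun i => θ ∘ e i) en, Fin.snoc (fun i => θ ∘ f i) fn, ?_,
    (h.map θ).snoc hen hfn hefn ⟨fun j => ?_, fun j => ?_⟩ ⟨fun j => ?_, fun j => ?_⟩⟩
  · ext x
    rw [Ideal.mem_comap, RingHom.mem_ker]
    show χ (algebraMap R P.Ring (ψ x)) = 0 ↔ x ∈ p
    rw [AlgHom.commutes, IsScalarTower.algebraMap_apply R pR.ResidueField Ω,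
      map_eq_zero, Ideal.algebraMap_residueField_eq_zero, ← Ideal.mem_comap, hpR]
  all_goals simp [C', en, fn, f0, ov.1, ov.2, ow.1, ow.2]

/-- Iterating `step`. -/
theorem exists_hyp [DecidableEq ι] (C : Matrix ι ι A) (hC : IsUnit (C + Cᵀ).det) (p : Ideal A)
    [p.IsPrime] (k : ℕ) (hk : 2 * k ≤ Fintype.card ι) :
    ∃ (A' : Type u) (_ : CommRing A') (_ : Algebra A A') (_ : Algebra.Etale A A') (q : Ideal A')
      (_ : q.IsPrime) (e f : Fin k → ι → A'),
      q.comap (algebraMap A A') = p ∧ Hyp (C.map (algebraMap A A')) e f := by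
  induction k with
  | zero =>
    refine ⟨A, inferInstance, Algebra.id A, inferInstance, p, ‹_›, Fin.elim0, Fin.elim0, ?_, ?_⟩
    · simp
    · exact ⟨fun i => i.elim0, fun i => i.elim0, fun i => i.elim0, fun i => i.elim0,
        fun i => i.elim0, fun i => i.elim0⟩
  | succ k ih =>
    obtain ⟨A₁, _, _, _, q₁, _, e, f, hq₁, h⟩ := ih (by omega)
    have hC₁ : IsUnit (C.map (algebraMap A A₁) + (C.map (algebraMap A A₁))ᵀ).det := by
      have h2 := hC.map (algebraMap A A₁)
      rw [RingHom.map_det] at h2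
      rwa [RingHom.mapMatrix_apply, Matrix.map_add _ (map_add _), Matrix.transpose_map] at h2
    obtain ⟨A₂, _, _, _, q₂, hq₂p, e', f', hq₂, h'⟩ := step _ hC₁ (by omega) q₁ e f h
    letI : Algebra A A₂ := ((algebraMap A₁ A₂).comp (algebraMap A A₁)).toAlgebra
    haveI : IsScalarTower A A₁ A₂ := IsScalarTower.of_algebraMap_eq fun _ => rfl
    refine ⟨A₂, inferInstance, inferInstance, Algebra.Etale.comp A A₁ A₂, q₂, hq₂p, e', f', ?_, ?_⟩
    · rw [IsScalarTower.algebraMap_eq A A₁ A₂, ← Ideal.comap_comap, hq₂, hq₁]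
    · rw [Matrix.map_map] at h'
      exact h'

/-- Finitely many etale algebras covering the spectrum over each of which the form is hyperbolic. -/
theorem exists_cover [DecidableEq ι] (C : Matrix ι ι A) (hC : IsUnit (C + Cᵀ).det)
    (k : ℕ) (hk : 2 * k ≤ Fintype.card ι) :
    ∃ (n : ℕ) (B : Fin n → Type u) (_ : ∀ t, CommRing (B t)) (_ : ∀ t, Algebra A (B t)),
      (∀ t, Algebra.Etale A (B t)) ∧
      (∀ p : PrimeSpectrum A, ∃ (t : Fin n) (q : PrimeSpectrum (B t)),
        q.asIdeal.comap (algebraMap A (B t)) = p.asIdeal) ∧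
      ∀ t, ∃ e f : Fin k → ι → B t, Hyp (C.map (algebraMap A (B t))) e f := by
  choose A' iC iA hE q hq e f hc hH using fun p : PrimeSpectrum A => exists_hyp C hC p.asIdeal k hk
  let U : PrimeSpectrum A → Set (PrimeSpectrum A) :=
    fun p => Set.range (PrimeSpectrum.comap (algebraMap A (A' p)))
  have hopen : ∀ p, IsOpen (U p) := fun p => by
    haveI := hE p
    exact (PrimeSpectrum.isOpenMap_comap_of_hasGoingDown_of_finitePresentation).isOpen_range
  obtain ⟨t, ht⟩ := isCompact_univ.elim_finite_subcover U hopen (fun p _ => Set.mem_iUnion.mpr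
    ⟨p, ⟨q p, hq p⟩, PrimeSpectrum.ext (hc p)⟩)
  let σ : Fin t.card → PrimeSpectrum A := fun i => (t.equivFin.symm i).1
  refine ⟨t.card, fun i => A' (σ i), fun i => iC _, fun i => iA _, fun i => hE _, fun p => ?_,
    fun i => ⟨_, _, hH (σ i)⟩⟩
  obtain ⟨x, hx, y, hy⟩ := Set.mem_iUnion₂.mp (ht (Set.mem_univ p))
  have hσ : σ (t.equivFin ⟨x, hx⟩) = x := by simp [σ]
  refine ⟨t.equivFin ⟨x, hx⟩, ?_⟩
  suffices ∀ z, z = x → ∃ q' : PrimeSpectrum (A' z),
      q'.asIdeal.comap (algebraMap A (A' z)) = p.asIdeal from this _ hσ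
  rintro z rfl
  exact ⟨y, congrArg PrimeSpectrum.asIdeal hy⟩

end Step

theorem Hyp.qf_sum {C : Matrix ι ι B} {k : ℕ} {e f : Fin k → ι → B} (h : Hyp C e f)
    (a c : Fin k → B) (s : Finset (Fin k)) :
    qf C (∑ j ∈ s, (a j • e j + c j • f j)) = ∑ j ∈ s, a j * c j := by
  classical
  induction s using Finset.induction_on with
  | empty => simp [qf]
  | @insert j s hj ih =>
    rw [Finset.sum_insert hj, Finset.sum_insert hj, qf_add, ih]
    have : bf C (a j • e j + c j • f j) (∑ i ∈ s, (a i • e i + c i • f i)) = 0 := by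
      rw [map_sum]
      refine Finset.sum_eq_zero fun i hi => ?_
      have hij : j ≠ i := fun e => hj (e ▸ hi)
      simp [h.ee, h.ff, h.efo j i hij, bf_comm C (f j) (e i), h.efo i j hij.symm]
    rw [this, qf_add, qf_smul, qf_smul, h.qe, h.qf']
    simp [h.efd, mul_comm]

/-- A full family gives the change of coordinates to the split form. -/
theorem exists_split {m : ℕ} (C : Matrix (Fin m ⊕ Fin m) (Fin m ⊕ Fin m) B)
    (e f : Fin m → (Fin m ⊕ Fin m) → B) (h : Hyp C e f) :
    ∃ g : Matrix (Fin m ⊕ Fin m) (Fin m ⊕ Fin m) B, IsUnit g.det ∧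
      ∀ x : Fin m ⊕ Fin m → B,
        qf C (g *ᵥ x) = ∑ j : Fin m, x (Sum.inl j) * x (Sum.inr j) := by
  let g : Matrix (Fin m ⊕ Fin m) (Fin m ⊕ Fin m) B := Matrix.of fun r s => Sum.elim e f s r
  refine ⟨g, ?_, fun x => ?_⟩
  · let J : Matrix (Fin m ⊕ Fin m) (Fin m ⊕ Fin m) B := Matrix.fromBlocks 0 1 1 0
    have key : gᵀ * ((C + Cᵀ) * g) = J := by
      ext r s
      have : (gᵀ * ((C + Cᵀ) * g)) r s = bf C (Sum.elim e f r) (Sum.elim e f s) := by
        rw [bf_eq_mulVec]
        rfl
      rw [this]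
      rcases r with r | r <;> rcases s with s | s
      · simp [J, h.ee]
      · rcases eq_or_ne r s with rfl | hrs
        · simp [J, h.efd]
        · simp [J, h.efo r s hrs, Matrix.one_apply_ne hrs]
      · rcases eq_or_ne r s with rfl | hrs
        · simp [J, bf_comm C (f r) (e r), h.efd]
        · simp [J, bf_comm C (f r) (e s), h.efo s r hrs.symm, Matrix.one_apply_ne hrs]
      · simp [J, h.ff]
    have hJ : J * J = 1 := by simp [J, Matrix.fromBlocks_multiply]
    have hu : IsUnit J.det := (Matrix.isUnit_iff_isUnit_det J).mp (.of_mul_eq_one J hJ)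
    rw [← key, det_mul, det_mul] at hu
    exact (IsUnit.mul_iff.mp (IsUnit.mul_iff.mp hu).2).2
  · rw [← h.qf_sum (fun j => x (Sum.inl j)) (fun j => x (Sum.inr j)) Finset.univ]
    congr 1
    funext r
    simp [g, Matrix.mulVec, dotProduct, Fintype.sum_sum_type, Finset.sum_add_distrib, mul_comm]

end GrothLib.QSplit21
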